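import Groth.Agent.Lib.EtMod.SubFam.Extend
import Groth.Agent.Lib.AlgSpEDS.OpenInduction
import Groth.Agent.Lib.AlgSpDecent.Core

import Groth.Agent.Lib.EtMod.SubFam.Induct

/-!
# Families of finite type inside a bounding family
-/
universe u

set_option backward.isDefEq.respectTransparency false
set_option linter.style.haveILetI false

open CategoryTheory CategoryTheory.Limits AlgebraicGeometry Opposite AlgSp
open Groth.Agent.Lib.AlgSpStalk.Lifts Groth.Agent.Lib.AlgSpStalk.Point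
open Groth.Agent.Lib.AlgSpEDS.OpenInduction (Step)

open Groth.Agent.Lib.EtMod Groth.Agent.Lib.EtMod.SubFam

namespace Groth.Agent.H8.ClosedLim.Family

variable {S : Scheme.{u}} [QuasiSeparatedSpace ↥S] {X : AlgSp.Space S} {M : ModEt X.obj}

omit [QuasiSeparatedSpace ↥S] in
theorem exists_request_step (hM : IsCart M) (A : Amb M)
    (hA : ∀ {E V : EtOver X.obj} [IsAffine E.obj.left.left] [IsAffine V.obj.left.left] (g : V ⟶ E), A.C V ≤ pushSub g (A.C E)) {O : Set (Points X.obj)} (hO : IsOpen O) (V₀ : EtOver X.obj)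
    [IsAffine V₀.obj.left.left] (hc : IsCompact {v : V₀.obj.left.left | Points.ofPt V₀.obj.hom v ∈ O})
    (hloc : ∀ {E : EtOver X.obj} [IsAffine E.obj.left.left] (a b : E ⟶ V₀) (w : E.obj.left.left),
      Points.ofPt E.obj.hom w ∉ O →
        ∃ (W : EtOver X.obj) (j : W ⟶ E), w ∈ Set.range j.hom.left.left ∧ j ≫ a = j ≫ b)
    (ih : ∀ (ι : Type (u + 1)) [Finite ι] (E : ι → EtOver X.obj) (_ : ∀ i, IsAffine (E i).obj.left.left)
      (s : ∀ i, sectModEt M (E i)), (∀ i, s i ∈ A.C (E i)) → (∀ i, Set.range (Points.ofPt (E i).obj.hom) ⊆ O) →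
      ∃ N : SubOn A O, ∀ i, s i ∈ N.N (E i))
    (ι : Type (u + 1)) [Finite ι] (E : ι → EtOver X.obj) (hE : ∀ i, IsAffine (E i).obj.left.left)
    (s : ∀ i, sectModEt M (E i)) (hs : ∀ i, s i ∈ A.C (E i))
    (hr : ∀ i, Set.range (Points.ofPt (E i).obj.hom) ⊆ O ∪ Set.range (Points.ofPt V₀.obj.hom)) :
    ∃ N : SubOn A (O ∪ Set.range (Points.ofPt V₀.obj.hom)), ∀ i, s i ∈ N.N (E i) := by
  classical
  haveI := hE
  have hC : ∀ i, ∃ C : AffCover (E i), ∀ k,
      Set.range (Points.ofPt (C.V k).obj.hom) ⊆ O ∨ Nonempty (C.V k ⟶ V₀) := fun i =>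
    exists_good_cover (fun V _ => Set.range (Points.ofPt V.obj.hom) ⊆ O ∨ Nonempty (V ⟶ V₀))
      (fun g _ h => h.imp (range_subset_of_hom g) fun ⟨a⟩ => ⟨g ≫ a⟩) fun x => by
      by_cases hx : Points.ofPt (E i).obj.hom x ∈ O
      · obtain ⟨O₁, hO₁, hwO, hle⟩ := exists_isAffineOpen_mem_and_subset
          (X := (E i).obj.left.left) (U := ⟨_, hO.preimage (Points.continuous_ofPt (E i).obj.hom)⟩) hx
        let O' : (E i).obj.left.left.Etale := MorphismProperty.Over.mk ⊤ O₁.ι (show Etale _ from inferInstance)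
        let j : (EtOver.ofChart (E i).obj.hom (E i).property).obj O' ⟶ E i := EtOver.homMk (EtOver.homOfEtale O') rfl
        refine ⟨_, j, Or.inl ?_, ⟨⟨x, hwO⟩, rfl⟩⟩
        rintro _ ⟨z, rfl⟩
        rw [← ofPt_comp_left j z]
        exact hle z.2
      · obtain ⟨v, hv⟩ := (hr i ⟨x, rfl⟩).resolve_left hx
        obtain ⟨W, hW, a, b, w, ha, -⟩ := exists_common_chart hv.symm
        exact ⟨W, a, Or.inr ⟨b⟩, w, ha⟩
  choose C hC using hC
  -- sections over `V₀` generating the restrictions of the requested ones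
  have hlift : ∀ p : (Σ i, Fin (C i).n), ∃ F : Finset (sectModEt M V₀), (↑F ⊆ (A.C V₀ : Set (sectModEt M V₀))) ∧ ∀ b : (C p.1).V p.2 ⟶ V₀,
      ∃ a : (C p.1).V p.2 ⟶ V₀, res M ((C p.1).g p.2) (s p.1) ∈
        Submodule.span (fn ((C p.1).V p.2)) (res M a '' (F : Set (sectModEt M V₀))) := fun p => by
    by_cases hne : Nonempty ((C p.1).V p.2 ⟶ V₀)
    · obtain ⟨a⟩ := hne
      obtain ⟨F', hF', hx⟩ := Submodule.mem_span_finite_of_mem_span
        (show res M ((C p.1).g p.2) (s p.1) ∈ Submodule.span (fn ((C p.1).V p.2))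
            (res M a '' (A.C V₀ : Set (sectModEt M V₀))) from
          hA a (A.res_mem _ _ (hs p.1)))
      choose q hqC hq using fun y : F' => hF' y.2
      refine ⟨Finset.univ.image q, fun y hy => ?_, fun _ => ⟨a, Submodule.span_mono (fun y hy => ?_) hx⟩⟩
      · obtain ⟨z, -, rfl⟩ := Finset.mem_image.1 (Finset.mem_coe.1 hy)
        exact hqC z
      exact ⟨q ⟨y, hy⟩, by simp, hq ⟨y, hy⟩⟩
    · exact ⟨∅, by simp, fun b => absurd ⟨b⟩ hne⟩
  choose F hFC hF using hlift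
  haveI : Finite (Σ i, Fin (C i).n) := inferInstance
  let G : Set (sectModEt M V₀) := ⋃ p : (Σ i, Fin (C i).n), (F p : Set (sectModEt M V₀))
  have hG : G.Finite := Set.finite_iUnion fun p => (F p).finite_toSet
  obtain ⟨T, hT, hTcov⟩ := exists_basic_cover hO V₀ hc
  -- the requests inside `O`
  let ι' : Type (u + 1) := {p : (Σ i, Fin (C i).n) // Set.range (Points.ofPt ((C p.1).V p.2).obj.hom) ⊆ O} ⊕
    (↥T × ↥G)
  haveI : Finite ↥G := hG.to_subtype
  have hGC : G ⊆ (A.C V₀ : Set (sectModEt M V₀)) := Set.iUnion_subset hFC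
  obtain ⟨N₁, hN₁⟩ := ih ι'
    (Sum.elim (fun p => (C p.1.1).V p.1.2) (fun q => basicObj V₀ q.1.1))
    (fun i => by cases i <;> simp only [Sum.elim_inl, Sum.elim_inr] <;> infer_instance)
    (fun i => match i with
      | .inl p => res M ((C p.1.1).g p.1.2) (s p.1.1)
      | .inr q => res M (basicHom V₀ q.1.1) q.2.1)
    (fun i => match i with
      | .inl p => A.res_mem _ _ (hs p.1.1)
      | .inr q => A.res_mem _ _ (hGC q.2.2))
    (fun i => match i with
      | .inl p => p.2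
      | .inr q => hT _ q.1.2)
  let S₀ := Submodule.span (fn V₀) G
  obtain ⟨N₂, hN₂, hS₀⟩ := exists_step hM hO N₁ V₀ hc hloc S₀ (Submodule.fg_span hG) (Submodule.span_le.2 hGC) fun D _ a hD => by
    rw [pushSub_span, Submodule.span_le]
    rintro _ ⟨g, hg, rfl⟩
    obtain ⟨C', hC'⟩ := exists_good_cover (E := D)
      (fun V b => ∃ t : T, ∃ c : V ⟶ basicObj V₀ t.1, c ≫ basicHom V₀ t.1 = b ≫ a)
      (fun g b ⟨t, c, hc⟩ => ⟨t, g ≫ c, by rw [Category.assoc, hc, Category.assoc]⟩) fun w => by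
      obtain ⟨t, ht, hw⟩ := hTcov (a.hom.left.left w) (ofPt_comp_left a w ▸ hD ⟨w, rfl⟩)
      exact ⟨_, EtOver.pullbackFst a (basicHom V₀ t), ⟨⟨t, ht⟩, EtOver.pullbackSnd _ _,
        (EtOver.pullback_condition a (basicHom V₀ t)).symm⟩, exists_pullbackFst_preimage _ _ hw⟩
    refine mem_of_local hM C' fun k => ?_
    obtain ⟨t, c, hc⟩ := hC' k
    rw [N₁.map_eq _ hD, ← res_comp_apply, ← hc, res_comp_apply, ← N₁.map_eq c (hT t t.2)]
    exact res_mem_pushSub c (hN₁ (Sum.inr ⟨t, ⟨g, hg⟩⟩))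
  refine ⟨N₂, fun i => mem_of_local hM (C i) fun k => ?_⟩
  rw [N₂.map_eq _ (hr i)]
  rcases hC i k with h | ⟨⟨b⟩⟩
  · rw [hN₂ _ h]
    exact hN₁ (Sum.inl ⟨⟨i, k⟩, h⟩)
  · obtain ⟨a, ha⟩ := hF ⟨i, k⟩ b
    rw [← N₂.map_eq a Set.subset_union_right]
    refine (Submodule.span_le.2 ?_) ha
    rintro _ ⟨g, hg, rfl⟩
    exact res_mem_pushSub a (hS₀ (Submodule.subset_span (Set.mem_iUnion.2 ⟨⟨i, k⟩, hg⟩)))

/-- Finitely many sections over affine objects lie in one finitely generated family. -/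
theorem exists_family_mem (A : Amb M)
    (hA : ∀ {E V : EtOver X.obj} [IsAffine E.obj.left.left] [IsAffine V.obj.left.left] (g : V ⟶ E), A.C V ≤ pushSub g (A.C E))
    (hXc : IsQuasiCompactSp X.obj) (hXs : IsQuasiSeparatedSp X.obj) (hM : IsCart M)
    (ι : Type (u + 1)) [Finite ι] (E : ι → EtOver X.obj) (hE : ∀ i, IsAffine (E i).obj.left.left)
    (s : ∀ i, sectModEt M (E i)) (hs : ∀ i, s i ∈ A.C (E i)) :
    ∃ N : SubOn A Set.univ, ∀ i, s i ∈ N.N (E i) := by
  obtain ⟨W₀, jW, hjW, hr⟩ := exists_open_subspace_of X (W := (∅ : Set (Points X.obj))) isOpen_empty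
  have hWc : IsQuasiCompactSp W₀.obj := by
    refine Groth.Agent.H8.EDSInduction.isQuasiCompactSp_of_range W₀.property hjW ?_
    rw [hr]
    exact isCompact_empty
  have huniv : Set.range (Points.map (𝟙 X : X ⟶ X).hom) = Set.univ :=
    Set.range_eq_univ.2 fun x => ⟨x, Points.map_id _⟩
  have := Groth.Agent.Lib.AlgSpEDS.OpenInduction.main (jW := jW) (P := fun U j =>
    ∀ (ι : Type (u + 1)) [Finite ι] (E : ι → EtOver X.obj) (_ : ∀ i, IsAffine (E i).obj.left.left)
      (s : ∀ i, sectModEt M (E i)), (∀ i, s i ∈ A.C (E i)) →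
      (∀ i, Set.range (Points.ofPt (E i).obj.hom) ⊆ Set.range (Points.map j.hom)) →
      ∃ N : SubOn A (Set.range (Points.map j.hom)), ∀ i, s i ∈ N.N (E i))
    hXc hXs hjW hWc
    (by
      intro ι _ E hE s hs h
      rw [hr] at h ⊢
      refine ⟨⟨fun _ => ⊥, fun g _ => le_bot_iff.1 ((pushSub_le_iff g).2 fun s hs => ?_),
        fun _ _ _ => Submodule.fg_bot, fun _ _ _ => bot_le⟩, fun i => ?_⟩
      · rw [(Submodule.mem_bot _).1 hs, map_zero]
        exact Submodule.zero_mem _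
      · refine (Submodule.mem_bot _).2 (eq_of_cover (fun z : PEmpty.{1} => z.elim) (fun z => z.elim)
          (fun x => (h i ⟨x, rfl⟩).elim) fun z => z.elim))
    (fun W₁ W₂ V j₁ j₂ k m f hj₁ hj₂ hk hm hW₁ _ hV hsq hP => by
      obtain ⟨V₀, hV₀, hu, ho, hc, hloc⟩ := exists_stepData hXs hj₁ hj₂ hk hW₁ hV hsq
      intro ι _ E hE s hs h
      rw [hu] at h ⊢
      exact exists_request_step hM A hA ho V₀ hc hloc hP ι E hE s hs h)
  rw [huniv] at this
  exact this ι E hE s hs fun i => Set.subset_univ _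


end Groth.Agent.H8.ClosedLim.Family
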