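import Groth.Agent.Lib.AlgSpMor.LocP
import Groth.Agent.Lib.AlgSpMor.QC
import Groth.Agent.Lib.EtMod.ClosedScalar
import Groth.Agent.H14.Sep.SpDiag
import Groth.Agent.Lib.AlgSpMor.SchImage.Main

/-!
# Closed subspaces with ideals of finite type
-/

universe u

set_option backward.isDefEq.respectTransparency false
set_option linter.style.haveILetI false

open CategoryTheory CategoryTheory.Limits AlgebraicGeometry AlgSp
open Groth.Agent.Lib.AlgSpace Groth.Agent.Lib.AlgSpMor Groth.Agent.Lib.EtMod

namespace Groth.Agent.H8.ClosedLim.Fp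

variable {S : Scheme.{u}} {Z X : Sp S} {i : Z ⟶ X}

/-- Such subspaces are of finite presentation. -/
theorem isFinitePresentationMor (hZ : IsAlgSpace Z) (hX : IsAlgSpace X) (hi : RepWith @IsClosedImmersion i)
    (E : EtOver X) [hE : IsAffine E.obj.left.left] (hs : RepWith @Surjective E.obj.hom)
    (hfg : ((AlgSp.idealOfRep hi.1).ideal E hE).FG) : IsFinitePresentationMor i := by
  have : Mono i := SchImage.mono_of_closedImmersion hi
  refine ⟨?_, QC.isQuasiCompactMor_of_repWith (repWith_mono hi fun _ _ g _ => inferInstance),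
    Groth.Agent.H14.Sep.SpDiag.isQuasiSeparatedMor_of_mono i⟩
  have hP := LocP.etaleLocalST_of_list (P := @LocallyOfFinitePresentation) (Or.inr (Or.inl rfl))
  have := isClosedImmersion_bcP hi E
  have := isAffine_bcE_closed hi E
  have h : LocallyOfFinitePresentation (bcP hi.1 E) :=
    (HasRingHomProperty.iff_of_isAffine (P := @LocallyOfFinitePresentation)).2
      (RingHom.FinitePresentation.of_surjective _ (surjective_πfn hi E) hfg)
  refine LocP.locP_of_isPullback_of_cover hP hZ hX E.property hs (hi.1.isPullback E.obj.hom) ?_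
  exact LocP.locP_of_repWith hP ((AlgSp.repWith_yon_map_iff _ _).2 h)

end Groth.Agent.H8.ClosedLim.Fp
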