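import Groth.Agent.H8.ClosedLim.Family
import Groth.Agent.Lib.EtMod.SubFam.Apps
import Groth.Agent.Lib.EtMod.SubFam.IdealExt
import Groth.Agent.S9988

/-!
# Ideals of finite type inside a quasi-coherent ideal
-/

universe u

set_option backward.isDefEq.respectTransparency false
set_option linter.style.haveILetI false

open CategoryTheory CategoryTheory.Limits AlgebraicGeometry Opposite AlgSp
open Groth.Agent.Lib.EtMod Groth.Agent.Lib.EtMod.SubFam

namespace Groth.Agent.H8.ClosedLim.Ideal

variable {S : Scheme.{u}} {X : Sp S}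

/-- The values of an ideal as submodules of the functions. -/
noncomputable def val (J : IdealEt X) (E : EtOver X) : Submodule (fn E) (sectModEt (unitModEt X) E) where
  carrier := {s | ∀ (W : EtOver X) (hW : IsAffine W.obj.left.left) (k : W ⟶ E),
    (unitSec W).symm (res (unitModEt X) k s) ∈ J.ideal W hW}
  add_mem' {s t} hs ht W hW k := by
    rw [map_add, map_add]
    exact Ideal.add_mem _ (hs W hW k) (ht W hW k)
  zero_mem' W hW k := by
    rw [map_zero, map_zero]
    exact Ideal.zero_mem _
  smul_mem' r s hs W hW k := by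
    rw [res_smul, map_smul]
    exact Ideal.mul_mem_left _ _ (hs W hW k)

theorem mem_val (J : IdealEt X) (E : EtOver X) [hE : IsAffine E.obj.left.left]
    {s : sectModEt (unitModEt X) E} : s ∈ val J E ↔ (unitSec E).symm s ∈ J.ideal E hE := by
  refine ⟨fun h => by simpa [res_id_apply] using h E hE (𝟙 E), fun h W hW k => ?_⟩
  obtain ⟨a, rfl⟩ := (unitSec E).surjective s
  rw [LinearEquiv.symm_apply_apply] at h
  rw [unitSec_res, LinearEquiv.symm_apply_apply]
  exact J.map_le k hE hW (Ideal.mem_map_of_mem _ h)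

theorem res_mem_val (J : IdealEt X) {E V : EtOver X} (g : V ⟶ E) {s : sectModEt (unitModEt X) E}
    (h : s ∈ val J E) : res (unitModEt X) g s ∈ val J V := fun W hW k => by
  rw [← res_comp_apply]
  exact h W hW (k ≫ g)

theorem val_le_pushSub (J : IdealEt X) (hJ : J.IsQCoh) {E V : EtOver X} [hE : IsAffine E.obj.left.left]
    [hV : IsAffine V.obj.left.left] (g : V ⟶ E) : val J V ≤ pushSub g (val J E) := by
  intro s hs
  obtain ⟨a, rfl⟩ := (unitSec V).surjective s
  have ha : a ∈ (J.ideal E hE).map (fnMap g) := hJ g hE hV (by simpa using (mem_val J V).1 hs)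
  have : (J.ideal E hE).map (fnMap g) ≤
      Submodule.comap (unitSec V).toLinearMap (pushSub g (val J E)) :=
    Ideal.map_le_iff_le_comap.2 fun b hb => by
      change unitSec V (fnMap g b) ∈ pushSub g (val J E)
      rw [← unitSec_res]
      exact res_mem_pushSub g ((mem_val J E).2 (by simpa using hb))
  exact this ha

/-- The bound given by a quasi-coherent ideal. -/
noncomputable def amb (J : IdealEt X) (hJ : J.IsQCoh) : Amb (unitModEt X) where
  C := val J
  res_mem g _ h := res_mem_val J g h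
  local_mem {E} _ Cv s h := mem_of_local isCart_unit Cv fun k =>
    val_le_pushSub J hJ (Cv.g k) (h k)
  away {E} _ t y h := exists_pow_smul_mem_of_res E t isCart_unit (val J E)
    (val_le_pushSub J hJ (basicHom E t) h)

variable {J : IdealEt X} {hJ : J.IsQCoh}

/-- The ideal of a family. -/
noncomputable def toIdeal (N : SubOn (amb J hJ) Set.univ) : IdealEt X where
  ideal E _ := (N.N E).map (unitSec E).symm.toLinearMap
  map_le {E E'} g hE hE' := Ideal.map_le_iff_le_comap.2 fun a ⟨s, hs, hsa⟩ => by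
    subst hsa
    obtain ⟨a, rfl⟩ := (unitSec E).surjective s
    refine ⟨unitSec E' (fnMap g a), ?_, LinearEquiv.symm_apply_apply _ _⟩
    have h : res (unitModEt X) g (unitSec E a) ∈ N.N E' := by
      rw [← N.map_eq g (Set.subset_univ _)]
      exact res_mem_pushSub g hs
    rw [unitSec_res] at h
    simpa using h

theorem mem_toIdeal (N : SubOn (amb J hJ) Set.univ) {E : EtOver X} (hE : IsAffine E.obj.left.left)
    {a : fn E} : a ∈ (toIdeal N).ideal E hE ↔ unitSec E a ∈ N.N E :=
  ⟨fun ⟨s, hs, h⟩ => by rwa [← h, LinearEquiv.coe_toLinearMap, LinearEquiv.apply_symm_apply],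
    fun h => ⟨_, h, LinearEquiv.symm_apply_apply _ _⟩⟩

theorem isQCoh_toIdeal (N : SubOn (amb J hJ) Set.univ) : (toIdeal N).IsQCoh := by
  intro E E' g hE hE' a ha
  have h1 : unitSec E' a ∈ pushSub g (N.N E) := by
    rw [N.map_eq g (Set.subset_univ _)]
    exact (mem_toIdeal N hE').1 ha
  have h2 : pushSub g (N.N E) ≤ Submodule.comap (unitSec E').symm.toLinearMap
      (((toIdeal N).ideal E hE).map (fnMap g)) :=
    (pushSub_le_iff g).2 fun s hs =>
      Ideal.mem_map_of_mem (fnMap g) (show (unitSec E).symm s ∈ _ from ⟨s, hs, rfl⟩)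
  exact h2 h1

theorem fg_toIdeal (N : SubOn (amb J hJ) Set.univ) {E : EtOver X} (hE : IsAffine E.obj.left.left) :
    ((toIdeal N).ideal E hE).FG :=
  Submodule.FG.map _ (N.fg E (Set.subset_univ _))

theorem toIdeal_le (N : SubOn (amb J hJ) Set.univ) : toIdeal N ≤ J := fun E hE a ha => by
  simpa using (mem_val J E).1 (N.le E (Set.subset_univ _) ((mem_toIdeal N hE).1 ha))

theorem toIdeal_mono {N N' : SubOn (amb J hJ) Set.univ}
    (h : ∀ (E : EtOver X) [IsAffine E.obj.left.left], N.N E ≤ N'.N E) : toIdeal N ≤ toIdeal N' :=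
  fun E _ => Submodule.map_mono (h E)

/-- Families are determined on an affine object covering the space. -/
theorem le_of_le_atlas (E₀ : EtOver X) [IsAffine E₀.obj.left.left]
    (hs : Function.Surjective (Points.ofPt E₀.obj.hom)) {N N' : SubOn (amb J hJ) Set.univ}
    (h : N.N E₀ ≤ N'.N E₀) (E : EtOver X) [IsAffine E.obj.left.left] : N.N E ≤ N'.N E := by
  obtain ⟨C, hC⟩ := exists_good_cover (E := E) (fun V _ => Nonempty (V ⟶ E₀))
    (fun g _ ⟨a⟩ => ⟨g ≫ a⟩) fun x => by
    obtain ⟨u, hu⟩ := hs (Points.ofPt E.obj.hom x)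
    obtain ⟨W, hW, a, b, w, ha, -⟩ := exists_common_chart hu.symm
    exact ⟨W, a, ⟨b⟩, w, ha⟩
  refine le_of_local isCart_unit C fun k => ?_
  obtain ⟨a⟩ := hC k
  rw [N.map_eq _ (Set.subset_univ _), N'.map_eq _ (Set.subset_univ _),
    ← N.map_eq a (Set.subset_univ _), ← N'.map_eq a (Set.subset_univ _)]
  exact pushSub_mono a h

end Groth.Agent.H8.ClosedLim.Ideal

namespace Groth.Agent.H8.ClosedLim.Ideal

variable {S : Scheme.{u}} [QuasiSeparatedSpace ↥S] {X : AlgSp.Space S}

/-- A section of a quasi-coherent ideal lies in a subideal of finite type. -/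
theorem exists_mem (hqc : IsQuasiCompactSp X.obj) (hqs : IsQuasiSeparatedSp X.obj) {J : IdealEt X.obj}
    (hJ : J.IsQCoh) (E : EtOver X.obj) (hE : IsAffine E.obj.left.left) {a : fn E} (ha : a ∈ J.ideal E hE) :
    ∃ N : SubOn (amb J hJ) Set.univ, a ∈ (toIdeal N).ideal E hE := by
  have := hE
  obtain ⟨N, hN⟩ := Family.exists_family_mem (amb J hJ) (fun g => val_le_pushSub J hJ g) hqc hqs
    isCart_unit PUnit.{u + 2} (fun _ => E) (fun _ => hE) (fun _ => unitSec E a)
    (fun _ => (mem_val J E).2 (by simpa using ha))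
  exact ⟨N, (mem_toIdeal N hE).2 (hN ⟨⟩)⟩

end Groth.Agent.H8.ClosedLim.Ideal
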