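import Groth.Agent.H8.ClosedLim.Ideal
import Groth.Prelude.Def_AlgSp4

/-!
# A small index of ideals of finite type
-/

universe u

set_option backward.isDefEq.respectTransparency false
set_option linter.style.haveILetI false

open CategoryTheory CategoryTheory.Limits AlgebraicGeometry Opposite AlgSp
open Groth.Agent.Lib.EtMod Groth.Agent.Lib.EtMod.SubFam Groth.Agent.H8.ClosedLim.Ideal

namespace Groth.Agent.H8.ClosedLim.Index

variable {S : Scheme.{u}}

theorem fp_of_eq {A B C : Sp S} (h : A = B) (g : B ⟶ C) (hg : IsFinitePresentationMor g) :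
    IsFinitePresentationMor (eqToHom h ≫ g) := by
  subst h
  rwa [eqToHom_refl, Category.id_comp]

variable [QuasiSeparatedSpace ↥S] {X : AlgSp.Space S}

/-- The index: the values on one affine atlas. -/
theorem exists_index (hqc : IsQuasiCompactSp X.obj) (hqs : IsQuasiSeparatedSp X.obj) {J : IdealEt X.obj}
    (hJ : J.IsQCoh) (E₀ : EtOver X.obj) (hE₀ : IsAffine E₀.obj.left.left)
    (hs : Function.Surjective (Points.ofPt E₀.obj.hom)) :
    ∃ (I : Type u) (_ : Preorder I) (_ : IsDirected I (fun a b => a ≤ b)) (_ : Nonempty I)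
      (N : I → SubOn (amb J hJ) Set.univ), (∀ a b, a ≤ b → toIdeal (N a) ≤ toIdeal (N b)) ∧
      ∀ (E : EtOver X.obj) (hE : IsAffine E.obj.left.left), ∀ x ∈ J.ideal E hE,
        ∃ a, x ∈ (toIdeal (N a)).ideal E hE := by
  have := hE₀
  let I := {a : Ideal (fn E₀) // ∃ N : SubOn (amb J hJ) Set.univ, (toIdeal N).ideal E₀ hE₀ = a}
  let ix : SubOn (amb J hJ) Set.univ → I := fun N => ⟨_, N, rfl⟩
  have hfam : ∀ a : I, (toIdeal a.2.choose).ideal E₀ hE₀ = a.1 := fun a => a.2.choose_spec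
  have hmono : ∀ N N' : SubOn (amb J hJ) Set.univ,
      (toIdeal N).ideal E₀ hE₀ ≤ (toIdeal N').ideal E₀ hE₀ → toIdeal N ≤ toIdeal N' := fun N N' h =>
    toIdeal_mono fun E _ => le_of_le_atlas E₀ hs (fun s hs' => by
      obtain ⟨a, rfl⟩ := (unitSec E₀).surjective s
      exact (mem_toIdeal N' hE₀).1 (h ((mem_toIdeal N hE₀).2 hs'))) E
  have hup : ∀ N N' : SubOn (amb J hJ) Set.univ, toIdeal N ≤ toIdeal (SubOn.sup N N') ∧
      toIdeal N' ≤ toIdeal (SubOn.sup N N') := fun N N' =>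
    ⟨toIdeal_mono fun E _ s hs => Submodule.mem_sup_left hs,
      toIdeal_mono fun E _ s hs => Submodule.mem_sup_right hs⟩
  refine ⟨I, inferInstance, ⟨fun a b => ⟨ix (SubOn.sup a.2.choose b.2.choose), ?_, ?_⟩⟩,
    ⟨ix SubOn.bot⟩, fun a => a.2.choose, fun a b hab => hmono _ _ (by rw [hfam, hfam]; exact hab),
    fun E hE x hx => ?_⟩
  · exact (hfam a).ge.trans ((hup _ _).1 E₀ hE₀)
  · exact (hfam b).ge.trans ((hup _ _).2 E₀ hE₀)
  · obtain ⟨N, hN⟩ := exists_mem hqc hqs hJ E hE hx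
    exact ⟨ix N, hmono N _ (hfam (ix N)).ge E hE hN⟩

end Groth.Agent.H8.ClosedLim.Index
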