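import Groth.Agent.Lib.AlgSpace.Basic
import Groth.Prelude.Def_AlgSpModX

/-!
# Factorisation through monomorphisms and kernels of composites
-/

universe u

set_option backward.isDefEq.respectTransparency false
set_option linter.style.haveILetI false

open CategoryTheory CategoryTheory.Limits AlgebraicGeometry AlgSp
open Groth.Agent.Lib.AlgSpace

namespace Groth.Agent.H8.ClosedLim.Lift

variable {S : Scheme.{u}}

theorem exists_lift_of_mono {A B C : Sp S} (m : A ⟶ C) [Mono m] (g : B ⟶ C)
    (h : ∀ (T : Over S) (a : (yon S).obj T ⟶ B), ∃ k : (yon S).obj T ⟶ A, k ≫ m = a ≫ g) :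
    ∃ l : B ⟶ A, l ≫ m = g := by
  choose φ hφ using h
  refine ⟨homMkYon φ fun {T T'} q a => ?_, hom_ext fun T a => ?_⟩
  · rw [← cancel_mono m, hφ, Category.assoc, Category.assoc, hφ]
  · rw [← Category.assoc, comp_homMkYon, hφ]

theorem idealOfRep_le_comp {X W : Sp S} {T : Over S} {g : W ⟶ X} (hg : Representable g)
    (h : (yon S).obj T ⟶ W) (hh : Representable (h ≫ g)) (E : EtOver X)
    (hE : IsAffine E.obj.left.left) :
    (idealOfRep hg).ideal E hE ≤ (idealOfRep hh).ideal E hE := by
  intro a ha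
  rw [mem_idealOfRep_iff] at ha ⊢
  let q := hg.lift (g := E.obj.hom) (hh.fst E.obj.hom ≫ h) (hh.snd E.obj.hom)
    (by rw [Category.assoc]; exact hh.w E.obj.hom)
  have hq : q ≫ hg.snd E.obj.hom = hh.snd E.obj.hom := by simp [q]
  change ((hh.snd E.obj.hom).left).appTop.hom a = 0
  rw [← hq, Over.comp_left, Scheme.Hom.comp_appTop, CommRingCat.hom_comp, RingHom.comp_apply]
  change q.left.appTop.hom ((EtOver.bcπ hg E).left.appTop.hom a) = 0
  rw [ha, map_zero]

end Groth.Agent.H8.ClosedLim.Lift
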