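import Groth.Agent.H8.ClosedLim.Ideal
import Groth.Agent.H8.ClosedLim.Fp
import Groth.Agent.H8.ClosedLim.Lift
import Groth.Agent.Lib.AlgSpace.Diag
import Groth.Agent.Lib.AlgSpDiv.Factor
import Groth.Agent.Lib.FerrandEtale.Union

/-!
# Limits of closed subspaces
-/

universe u

set_option backward.isDefEq.respectTransparency false
set_option linter.style.haveILetI false

open CategoryTheory CategoryTheory.Limits AlgebraicGeometry Opposite AlgSp
open Groth.Agent.Lib.EtMod Groth.Agent.Lib.EtMod.SubFam Groth.Agent.Lib.AlgSpace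
open Groth.Agent.H8.ClosedLim.Lift Groth.Agent.Lib.AlgSpDiv

namespace Groth.Agent.H8.ClosedLim.Main

variable {S : Scheme.{u}}

theorem exists_lift_of_le {Y : AlgSp.Space S} {W Z : Sp S} {z : Z ⟶ Y.obj} {J : IdealEt Y.obj}
    (hz : IsCutOutBy J z) (g : W ⟶ Y.obj) (hg : Representable g) (hle : J ≤ idealOfRep hg) :
    ∃ k : W ⟶ Z, k ≫ z = g := by
  have : Mono z := Groth.Agent.Lib.AlgSpMor.SchImage.mono_of_closedImmersion hz.1
  refine exists_lift_of_mono z g fun T h =>
    (exists_factor_iff Y.property hz (representable_from_yon Y.property.diag _)).2 fun E hE => ?_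
  exact (hle E hE).trans (idealOfRep_le_comp hg h _ E hE)

/-- A closed subspace is the limit of the subspaces cut out by ideals exhausting its ideal. -/
theorem exists_limit {X Y : AlgSp.Space S} (f : X ⟶ Y) (hf : RepWith @IsClosedImmersion f.hom)
    (I : Type u) [Preorder I] [IsDirected I (fun a b => a ≤ b)] [Nonempty I]
    (K : I → IdealEt Y.obj) (hmono : ∀ a b, a ≤ b → K a ≤ K b)
    (hle : ∀ a, K a ≤ idealOfRep hf.1)
    (hsup : ∀ (E : EtOver Y.obj) (hE : IsAffine E.obj.left.left),
      ∀ x ∈ (idealOfRep hf.1).ideal E hE, ∃ a, x ∈ (K a).ideal E hE)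
    (Z : I → AlgSp.Space S) (z : ∀ a, Z a ⟶ Y) (hz : ∀ a, IsCutOutBy (K a) (z a).hom) :
    ∃ (D : Iᵒᵖ ⥤ AlgSp.Sp S) (t : D ⟶ (Functor.const Iᵒᵖ).obj Y.obj) (c : Cone D) (_ : IsLimit c)
      (e : c.pt ≅ X.obj),
      (∀ i, ∃ h : D.obj i = (Z i.unop).obj, t.app i = eqToHom h ≫ (z i.unop).hom) ∧
      (∀ (i j : Iᵒᵖ) (φ : i ⟶ j), RepWith @IsClosedImmersion (D.map φ)) ∧
      (∀ i, e.inv ≫ c.π.app i ≫ t.app i = f.hom) := by
  have hzmono : ∀ a, Mono (z a).hom := fun a =>
    Groth.Agent.Lib.AlgSpMor.SchImage.mono_of_closedImmersion (hz a).1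
  have htr : ∀ a b : I, a ≤ b → ∃ k : (Z b).obj ⟶ (Z a).obj, k ≫ (z a).hom = (z b).hom :=
    fun a b hab => exists_lift_of_le (hz a) (z b).hom (hz b).1.1
      (by rw [(hz b).2]; exact hmono a b hab)
  choose tr htr using htr
  choose k hk using fun a : I => exists_lift_of_le (hz a) f.hom hf.1 (hle a)
  let D : Iᵒᵖ ⥤ AlgSp.Sp S :=
    { obj := fun a => (Z a.unop).obj
      map := fun {a b} φ => tr b.unop a.unop (leOfHom φ.unop)
      map_id := fun a => by
        have := hzmono a.unop
        rw [← cancel_mono (z a.unop).hom, htr, Category.id_comp]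
      map_comp := fun {a b c} φ ψ => by
        have := hzmono c.unop
        rw [← cancel_mono (z c.unop).hom, Category.assoc, htr, htr, htr] }
  let t : D ⟶ (Functor.const Iᵒᵖ).obj Y.obj :=
    { app := fun a => (z a.unop).hom
      naturality := fun a b φ => by
        change tr b.unop a.unop _ ≫ (z b.unop).hom = (z a.unop).hom ≫ 𝟙 _
        rw [htr, Category.comp_id] }
  let c : Cone D :=
    { pt := X.obj
      π :=
        { app := fun a => k a.unop
          naturality := fun a b φ => by
            have := hzmono b.unop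
            change 𝟙 _ ≫ k b.unop = k a.unop ≫ tr b.unop a.unop _
            rw [Category.id_comp, ← cancel_mono (z b.unop).hom, hk, Category.assoc, htr, hk] } }
  have hfm : Mono f.hom := Groth.Agent.Lib.AlgSpMor.SchImage.mono_of_closedImmersion hf
  obtain ⟨a₀⟩ := (inferInstance : Nonempty I)
  have hlim : ∀ s : Cone D, ∃ l : s.pt ⟶ X.obj, ∀ a, l ≫ f.hom = s.π.app a ≫ (z a.unop).hom := fun s => by
    have heq : ∀ a : Iᵒᵖ, s.π.app a ≫ (z a.unop).hom = s.π.app (op a₀) ≫ (z a₀).hom := fun a => by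
      obtain ⟨b, hab, hb⟩ := exists_ge_ge a.unop a₀
      have h1 : s.π.app (op b) ≫ tr a.unop b hab = s.π.app a := s.w (homOfLE hab).op
      have h2 : s.π.app (op b) ≫ tr a₀ b hb = s.π.app (op a₀) := s.w (homOfLE hb).op
      rw [← h1, ← h2, Category.assoc, Category.assoc, htr, htr]
    obtain ⟨l, hl⟩ := exists_lift_of_mono f.hom (s.π.app (op a₀) ≫ (z a₀).hom) fun T h => by
      refine (exists_factor_iff Y.property (I := idealOfRep hf.1) ⟨hf, rfl⟩
        (representable_from_yon Y.property.diag _)).2 fun E hE x hx => ?_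
      obtain ⟨a, ha⟩ := hsup E hE x hx
      refine ((exists_factor_iff Y.property (hz a)
        (representable_from_yon Y.property.diag _)).1 ⟨h ≫ s.π.app (op a), ?_⟩) E hE ha
      rw [Category.assoc]
      exact congrArg (h ≫ ·) (heq (op a))
    exact ⟨l, fun a => hl.trans (heq a).symm⟩
  choose l hl using hlim
  have hc : IsLimit c :=
    { lift := l
      fac := fun s a => by
        have := hzmono a.unop
        rw [← cancel_mono (z a.unop).hom, Category.assoc]
        change l s ≫ k a.unop ≫ _ = _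
        rw [hk, hl s a]
      uniq := fun s m hm => by
        rw [← cancel_mono f.hom, hl s (op a₀), ← hk a₀, ← Category.assoc]
        exact congrArg (· ≫ (z a₀).hom) (hm (op a₀)) }
  refine ⟨D, t, c, hc, Iso.refl _, fun a => ⟨rfl, (Category.id_comp _).symm⟩, fun a b φ => ?_,
    fun a => (Category.id_comp _).trans (hk a.unop)⟩
  have := hzmono b.unop
  exact Groth.Agent.Lib.FerrandEtale.Union.repWith_of_comp_mono (htr b.unop a.unop _) (hz a.unop).1

end Groth.Agent.H8.ClosedLim.Main
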